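import Mathlib

/-!
The 2-part of a factorial, used to bound nilpotent permutation groups.
-/

set_option autoImplicit false

namespace CfsgLib.NilpPerm

/-- The 2-part of `n!`. -/
def twoFact (n : ℕ) : ℕ := 2 ^ (n.factorial.factorization 2)

/-- Twice the largest order of a nilpotent subgroup of the symmetric group of degree `n`. -/
def cap (n : ℕ) : ℕ := if n % 4 = 3 then 3 * twoFact n else 2 * twoFact n

theorem twoFact_pos (n : ℕ) : 0 < twoFact n := Nat.pow_pos (by omega)

theorem twoFact_mul_le (a b : ℕ) : twoFact a * twoFact b ≤ twoFact (a + b) := by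
  rw [twoFact, twoFact, twoFact, ← pow_add]
  apply Nat.pow_le_pow_right (by omega)
  have h := (Nat.factorization_le_iff_dvd (mul_ne_zero (Nat.factorial_ne_zero a) (Nat.factorial_ne_zero b))
    (Nat.factorial_ne_zero _)).mpr (Nat.factorial_mul_factorial_dvd_factorial_add a b) 2
  rwa [Nat.factorization_mul (Nat.factorial_ne_zero a) (Nat.factorial_ne_zero b)] at h

theorem twoFact_two_mul (m : ℕ) : twoFact (2 * m) = 2 ^ m * twoFact m := by
  haveI : Fact (Nat.Prime 2) := ⟨Nat.prime_two⟩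
  rw [twoFact, twoFact, ← pow_add, Nat.factorization_def _ Nat.prime_two,
    Nat.factorization_def _ Nat.prime_two, padicValNat_factorial_mul, Nat.add_comm]

theorem twoFact_two_mul_add_one (m : ℕ) : twoFact (2 * m + 1) = twoFact (2 * m) := by
  haveI : Fact (Nat.Prime 2) := ⟨Nat.prime_two⟩
  rw [twoFact, twoFact, Nat.factorization_def _ Nat.prime_two, Nat.factorization_def _ Nat.prime_two,
    padicValNat_factorial_mul_add m (by omega : 1 < 2)]

theorem twoFact_zero : twoFact 0 = 1 := by simp [twoFact]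

theorem twoFact_one : twoFact 1 = 1 := by simp [twoFact]

theorem twoFact_two : twoFact 2 = 2 := by
  have := twoFact_two_mul 1
  simpa [twoFact_one] using this

theorem twoFact_three : twoFact 3 = 2 := by
  rw [show (3 : ℕ) = 2 * 1 + 1 from rfl, twoFact_two_mul_add_one]; exact twoFact_two

theorem twoFact_four : twoFact 4 = 8 := by
  rw [show (4 : ℕ) = 2 * 2 from rfl, twoFact_two_mul, twoFact_two]; norm_num

theorem twoFact_five : twoFact 5 = 8 := by
  rw [show (5 : ℕ) = 2 * 2 + 1 from rfl, twoFact_two_mul_add_one]; exact twoFact_four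

theorem twoFact_six : twoFact 6 = 16 := by
  rw [show (6 : ℕ) = 2 * 3 from rfl, twoFact_two_mul, twoFact_three]; norm_num

theorem twoFact_seven : twoFact 7 = 16 := by
  rw [show (7 : ℕ) = 2 * 3 + 1 from rfl, twoFact_two_mul_add_one]; exact twoFact_six

theorem twoFact_eight : twoFact 8 = 128 := by
  rw [show (8 : ℕ) = 2 * 4 from rfl, twoFact_two_mul, twoFact_four]; norm_num

theorem twoFact_nine : twoFact 9 = 128 := by
  rw [show (9 : ℕ) = 2 * 4 + 1 from rfl, twoFact_two_mul_add_one]; exact twoFact_eight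

theorem twoFact_ten : twoFact 10 = 256 := by
  rw [show (10 : ℕ) = 2 * 5 from rfl, twoFact_two_mul, twoFact_five]; norm_num

theorem twoFact_eleven : twoFact 11 = 256 := by
  rw [show (11 : ℕ) = 2 * 5 + 1 from rfl, twoFact_two_mul_add_one]; exact twoFact_ten

theorem twoFact_twelve : twoFact 12 = 1024 := by
  rw [show (12 : ℕ) = 2 * 6 from rfl, twoFact_two_mul, twoFact_six]; norm_num

theorem twoFact_fourteen : twoFact 14 = 2048 := by
  rw [show (14 : ℕ) = 2 * 7 from rfl, twoFact_two_mul, twoFact_seven]; norm_num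

theorem twoFact_fifteen : twoFact 15 = 2048 := by
  rw [show (15 : ℕ) = 2 * 7 + 1 from rfl, twoFact_two_mul_add_one]; exact twoFact_fourteen

theorem twoFact_eighteen : twoFact 18 = 65536 := by
  rw [show (18 : ℕ) = 2 * 9 from rfl, twoFact_two_mul, twoFact_nine]; norm_num

theorem twoFact_mono {a b : ℕ} (h : a ≤ b) : twoFact a ≤ twoFact b := by
  obtain ⟨c, rfl⟩ := Nat.exists_eq_add_of_le h
  calc twoFact a = twoFact a * 1 := (mul_one _).symm
    _ ≤ twoFact a * twoFact c := Nat.mul_le_mul_left _ (twoFact_pos c)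
    _ ≤ _ := twoFact_mul_le a c

theorem eight_le_twoFact {n : ℕ} (h : 4 ≤ n) : 8 ≤ twoFact n := twoFact_four ▸ twoFact_mono h

theorem two_pow_le : ∀ n, 2 ^ n ≤ (n + 1) * twoFact n := by
  intro n
  induction n using Nat.strong_induction_on with
  | _ n ih =>
    rcases Nat.eq_zero_or_pos n with rfl | hn
    · simp [twoFact_zero]
    rcases Nat.even_or_odd' n with ⟨m, rfl | rfl⟩
    · rw [twoFact_two_mul]
      calc 2 ^ (2 * m) = 2 ^ m * 2 ^ m := by rw [two_mul, pow_add]
        _ ≤ 2 ^ m * ((m + 1) * twoFact m) := Nat.mul_le_mul_left _ (ih m (by omega))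
        _ ≤ (2 * m + 1) * (2 ^ m * twoFact m) := by
          rw [mul_left_comm]; exact Nat.mul_le_mul_right _ (by omega)
    · rw [twoFact_two_mul_add_one, twoFact_two_mul]
      calc 2 ^ (2 * m + 1) = 2 * (2 ^ m * 2 ^ m) := by rw [pow_succ, two_mul, pow_add]; ring
        _ ≤ 2 * (2 ^ m * ((m + 1) * twoFact m)) :=
          Nat.mul_le_mul_left _ (Nat.mul_le_mul_left _ (ih m (by omega)))
        _ = (2 * m + 1 + 1) * (2 ^ m * twoFact m) := by ring

theorem odd_odd_le {a b : ℕ} (ha : a % 2 = 1) (hb : b % 2 = 1) :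
    2 * (twoFact a * twoFact b) ≤ twoFact (a + b) := by
  obtain ⟨c, rfl⟩ : ∃ c, a = 2 * c + 1 := ⟨a / 2, by omega⟩
  obtain ⟨d, rfl⟩ : ∃ d, b = 2 * d + 1 := ⟨b / 2, by omega⟩
  rw [show 2 * c + 1 + (2 * d + 1) = 2 * (c + d + 1) by ring, twoFact_two_mul, twoFact_two_mul_add_one,
    twoFact_two_mul_add_one, twoFact_two_mul, twoFact_two_mul]
  calc 2 * (2 ^ c * twoFact c * (2 ^ d * twoFact d))
      = 2 ^ (c + d + 1) * (twoFact c * twoFact d) := by rw [pow_succ, pow_add]; ring
    _ ≤ _ := Nat.mul_le_mul_left _ ((twoFact_mul_le c d).trans (twoFact_mono (by omega)))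

theorem three_two_le {a b : ℕ} (ha : a % 4 = 3) (hb : b % 4 = 2) :
    2 * (twoFact a * twoFact b) ≤ twoFact (a + b) := by
  obtain ⟨c, rfl⟩ : ∃ c, a = 2 * c + 1 := ⟨a / 2, by omega⟩
  obtain ⟨d, rfl⟩ : ∃ d, b = 2 * d := ⟨b / 2, by omega⟩
  rw [show 2 * c + 1 + 2 * d = 2 * (c + d) + 1 by ring, twoFact_two_mul_add_one, twoFact_two_mul_add_one,
    twoFact_two_mul, twoFact_two_mul, twoFact_two_mul]
  calc 2 * (2 ^ c * twoFact c * (2 ^ d * twoFact d))
      = 2 ^ (c + d) * (2 * (twoFact c * twoFact d)) := by rw [pow_add]; ring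
    _ ≤ _ := Nat.mul_le_mul_left _ (odd_odd_le (by omega) (by omega))

theorem three_three_le {a b : ℕ} (ha : a % 4 = 3) (hb : b % 4 = 3) :
    4 * (twoFact a * twoFact b) ≤ twoFact (a + b) := by
  obtain ⟨c, rfl⟩ : ∃ c, a = 2 * c + 1 := ⟨a / 2, by omega⟩
  obtain ⟨d, rfl⟩ : ∃ d, b = 2 * d + 1 := ⟨b / 2, by omega⟩
  have h : 2 * (twoFact c * twoFact d) ≤ twoFact (c + d + 1) :=
    (odd_odd_le (by omega) (by omega)).trans (twoFact_mono (by omega))
  rw [show 2 * c + 1 + (2 * d + 1) = 2 * (c + d + 1) by ring, twoFact_two_mul, twoFact_two_mul_add_one,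
    twoFact_two_mul_add_one, twoFact_two_mul, twoFact_two_mul]
  calc 4 * (2 ^ c * twoFact c * (2 ^ d * twoFact d))
      = 2 ^ (c + d + 1) * (2 * (twoFact c * twoFact d)) := by rw [pow_succ, pow_add]; ring
    _ ≤ _ := Nat.mul_le_mul_left _ h

theorem two_twoFact_le_cap (n : ℕ) : 2 * twoFact n ≤ cap n := by
  unfold cap; split_ifs <;> omega

theorem cap_le (n : ℕ) : cap n ≤ 3 * twoFact n := by
  unfold cap; split_ifs <;> omega

theorem cap_of_ne {n : ℕ} (h : n % 4 ≠ 3) : cap n = 2 * twoFact n := if_neg h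

theorem cap_of_eq {n : ℕ} (h : n % 4 = 3) : cap n = 3 * twoFact n := if_pos h

theorem cap_mul_le (a b : ℕ) : cap a * cap b ≤ 2 * cap (a + b) := by
  wlog hab : b % 4 = 3 → a % 4 = 3 generalizing a b
  · have hb : b % 4 = 3 := by tauto
    have ha : a % 4 ≠ 3 := by tauto
    rw [mul_comm, add_comm a b]
    exact this b a (fun h => absurd h ha)
  by_cases ha : a % 4 = 3
  · have hP := twoFact_mul_le a b
    by_cases hb : b % 4 = 3
    · rw [cap_of_eq ha, cap_of_eq hb, cap_of_ne (by omega)]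
      have := three_three_le ha hb
      nlinarith [twoFact_pos a, twoFact_pos b]
    · rw [cap_of_eq ha, cap_of_ne hb]
      rcases (show b % 4 = 0 ∨ b % 4 = 1 ∨ b % 4 = 2 by omega) with h | h | h
      · rw [cap_of_eq (by omega)]
        nlinarith
      · rw [cap_of_ne (by omega)]
        have := odd_odd_le (show a % 2 = 1 by omega) (show b % 2 = 1 by omega)
        nlinarith
      · rw [cap_of_ne (by omega)]
        have := three_two_le ha h
        nlinarith
  · have hb : b % 4 ≠ 3 := fun h => ha (hab h)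
    rw [cap_of_ne ha, cap_of_ne hb]
    have := twoFact_mul_le a b
    have := two_twoFact_le_cap (a + b)
    nlinarith

theorem sq_le_three_pow {p : ℕ} (hp : 3 ≤ p) : p ^ 2 ≤ 3 ^ (p - 1) := by
  induction p, hp using Nat.le_induction with
  | base => norm_num
  | succ k hk ih =>
    have e : k + 1 - 1 = (k - 1) + 1 := by omega
    rw [e, pow_succ 3]
    nlinarith

theorem two_mul_succ_le {p : ℕ} (hp : 7 ≤ p) : 2 * p * (p + 1) ≤ 2 ^ p := by
  induction p, hp using Nat.le_induction with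
  | base => norm_num
  | succ k hk ih =>
    rw [pow_succ]
    nlinarith

theorem three_pow_le {n : ℕ} (hn : 25 ≤ n) : 4 * 3 ^ (n - 1) * (n + 1) ^ 2 ≤ 4 ^ n := by
  induction n, hn using Nat.le_induction with
  | base => norm_num
  | succ k hk ih =>
    have e : k + 1 - 1 = (k - 1) + 1 := by omega
    rw [e, pow_succ 3, pow_succ 4]
    have h1 : 3 * (k + 1 + 1) ^ 2 ≤ 4 * (k + 1) ^ 2 := by nlinarith
    calc 4 * (3 ^ (k - 1) * 3) * (k + 1 + 1) ^ 2 = 4 * 3 ^ (k - 1) * (3 * (k + 1 + 1) ^ 2) := by ring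
      _ ≤ 4 * 3 ^ (k - 1) * (4 * (k + 1) ^ 2) := Nat.mul_le_mul_left _ h1
      _ = 4 * (4 * 3 ^ (k - 1) * (k + 1) ^ 2) := by ring
      _ ≤ 4 * 4 ^ k := Nat.mul_le_mul_left _ ih
      _ = 4 ^ k * 4 := mul_comm _ _

/-- Odd prime power degree: the Sylow subgroup is small, apart from degrees 3, 5, 9. -/
theorem prime_power_bound {p a n x : ℕ} (hp : p.Prime) (hp2 : p ≠ 2) (hn : n = p ^ a) (ha : 1 ≤ a)
    (hx : x ∣ p ^ (n.factorial.factorization p)) :
    (n ≠ 3 → n ≠ 5 → n ≠ 9 → 2 * x ≤ twoFact n) ∧ (n = 3 → x ≤ 3) ∧ (n = 5 → x ≤ 5) ∧ (n = 9 → x ≤ 81) := by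
  haveI : Fact p.Prime := ⟨hp⟩
  have hp3 : 3 ≤ p := by have := hp.two_le; omega
  have hxle := Nat.le_of_dvd (Nat.pow_pos hp.pos) hx
  set v := n.factorial.factorization p with hv
  have hnpos : 0 < n := hn ▸ Nat.pow_pos hp.pos
  have hvle : (p - 1) * v ≤ n - 1 := by
    rw [hv, Nat.factorization_def _ hp, sub_one_mul_padicValNat_factorial]
    have : 1 ≤ (p.digits n).sum := by
      by_contra h
      have h0 : (p.digits n).sum = 0 := by omega
      have hlast := Nat.getLast_digit_ne_zero p (m := n) (by omega)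
      have hmem := List.getLast_mem ((Nat.digits_ne_nil_iff_ne_zero (b := p)).mpr (show n ≠ 0 by omega))
      exact hlast (List.sum_eq_zero_iff.mp h0 _ hmem)
    omega
  have hsq : x ^ 2 ≤ 3 ^ (n - 1) :=
    calc x ^ 2 ≤ (p ^ v) ^ 2 := Nat.pow_le_pow_left hxle 2
      _ = (p ^ 2) ^ v := by rw [← pow_mul, ← pow_mul, mul_comm]
      _ ≤ (3 ^ (p - 1)) ^ v := Nat.pow_le_pow_left (sq_le_three_pow hp3) v
      _ = 3 ^ ((p - 1) * v) := by rw [← pow_mul]
      _ ≤ _ := Nat.pow_le_pow_right (by omega) hvle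
  have hprime : a = 1 → x ≤ n := by
    intro h1
    subst h1
    rw [pow_one] at hn
    refine hxle.trans ?_
    have hv1 : v ≤ 1 := by
      by_contra h
      have : (p - 1) * 2 ≤ (p - 1) * v := Nat.mul_le_mul_left _ (by omega)
      omega
    calc p ^ v ≤ p ^ 1 := Nat.pow_le_pow_right hp.pos hv1
      _ = n := by rw [pow_one, hn]
  refine ⟨fun h3 h5 h9 => ?_, fun h => ?_, fun h => ?_, fun h => ?_⟩
  · by_cases h1 : a = 1
    · have hxn := hprime h1
      have hn7 : 7 ≤ n := by
        rw [hn, h1, pow_one] at h3 h5 ⊢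
        rcases Nat.lt_or_ge p 7 with h | h
        · interval_cases p <;> norm_num at *
        · exact h
      have := two_pow_le n
      have h2 := two_mul_succ_le hn7
      have : 2 * x * (n + 1) ≤ twoFact n * (n + 1) := by nlinarith
      exact Nat.le_of_mul_le_mul_right this (by omega)
    · have h25 : 25 ≤ n := by
        by_contra hlt
        have ha2 : p ^ 2 ≤ n := hn ▸ Nat.pow_le_pow_right hp.pos (by omega)
        have hp4 : p < 5 := by nlinarith
        have hp' : p = 3 := by interval_cases p <;> norm_num at *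
        subst hp'
        have ha3 : a < 3 := by
          by_contra h
          have : 3 ^ 3 ≤ n := hn ▸ Nat.pow_le_pow_right (by omega) (by omega)
          omega
        have : a = 2 := by omega
        subst this
        exact h9 (by rw [hn]; norm_num)
      have h1' := three_pow_le h25
      have h2 := two_pow_le n
      have h3' : (2 * x * (n + 1)) ^ 2 ≤ (twoFact n * (n + 1)) ^ 2 :=
        calc (2 * x * (n + 1)) ^ 2 = 4 * x ^ 2 * (n + 1) ^ 2 := by ring
          _ ≤ 4 * 3 ^ (n - 1) * (n + 1) ^ 2 := by gcongr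
          _ ≤ 4 ^ n := h1'
          _ = (2 ^ n) ^ 2 := by rw [← pow_mul, mul_comm n 2, pow_mul]; norm_num
          _ ≤ _ := Nat.pow_le_pow_left (by rw [mul_comm]; exact h2) 2
      exact Nat.le_of_mul_le_mul_right ((Nat.pow_le_pow_iff_left (by norm_num)).mp h3') (by omega)
  · rw [h] at hsq; norm_num at hsq; nlinarith
  · have ha1 : a = 1 := by
      by_contra hne
      have : p ^ 2 ≤ n := hn ▸ Nat.pow_le_pow_right hp.pos (by omega)
      nlinarith
    exact h ▸ hprime ha1
  · rw [h] at hsq; norm_num at hsq; nlinarith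

/-- Coprime transitive factorisations are small. -/
theorem split_bound {a b : ℕ} (ha : 3 ≤ a) (hodd : a % 2 = 1) (hb : 2 ≤ b) (hco : Nat.Coprime a b)
    (h1 : ¬ (a = 3 ∧ b = 2)) (h2 : ¬ (a = 5 ∧ b = 2)) : cap a * cap b ≤ 2 * twoFact (a * b) := by
  have hbig : 5 ≤ (a - 1) * (b - 1) := by
    rcases Nat.lt_or_ge b 3 with hb3 | hb3
    · have : b = 2 := by omega
      subst this
      omega
    · rcases Nat.lt_or_ge a 5 with ha5 | ha5
      · have ha3 : a = 3 := by omega
        subst ha3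
        rcases Nat.lt_or_ge b 4 with hb4 | hb4
        · have : b = 3 := by omega
          subst this
          norm_num at hco
        · have : 3 ≤ b - 1 := by omega
          nlinarith
      · have : 4 ≤ a - 1 := by omega
        have : 2 ≤ b - 1 := by omega
        nlinarith
  obtain ⟨r, hr⟩ : ∃ r, a * b = a + b + r ∧ 4 ≤ r := by
    obtain ⟨a', rfl⟩ : ∃ a', a = a' + 1 := ⟨a - 1, by omega⟩
    obtain ⟨b', rfl⟩ : ∃ b', b = b' + 1 := ⟨b - 1, by omega⟩
    simp only [Nat.add_sub_cancel] at hbig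
    exact ⟨a' * b' - 1, by ring_nf; omega, by omega⟩
  have h := (Nat.mul_le_mul (twoFact_mul_le a b) (eight_le_twoFact hr.2)).trans (twoFact_mul_le (a + b) r)
  rw [← hr.1] at h
  calc cap a * cap b ≤ (3 * twoFact a) * (3 * twoFact b) := Nat.mul_le_mul (cap_le a) (cap_le b)
    _ ≤ 2 * (twoFact a * twoFact b * 8) := by nlinarith
    _ ≤ _ := Nat.mul_le_mul_left 2 h

theorem twoFact_three_mod {n : ℕ} (h : n % 4 = 3) : twoFact n = 2 * twoFact (n - 3) := by
  obtain ⟨t, rfl⟩ : ∃ t, n = 4 * t + 3 := ⟨n / 4, by omega⟩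
  rw [Nat.add_sub_cancel, show 4 * t + 3 = 2 * (2 * t + 1) + 1 by ring, twoFact_two_mul_add_one,
    twoFact_two_mul, show 4 * t = 2 * (2 * t) by ring, twoFact_two_mul, twoFact_two_mul_add_one]
  ring

end CfsgLib.NilpPerm
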