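import Mathlib
import Cfsg.Agent.Lib.NilpPerm.Numeric

/-!
Orders of nilpotent permutation groups: at most the 2-part of `n!`, or three halves of it in degree 3 mod 4.
-/

set_option autoImplicit false

namespace CfsgLib.NilpPerm

open Equiv

theorem commute_of_coprime_order {G : Type*} [Group G] [Finite G] [Group.IsNilpotent G] {a b : G}
    (h : Nat.Coprime (orderOf a) (orderOf b)) : Commute a b := by
  obtain ⟨e⟩ := (Group.isNilpotent_of_finite_tfae (G := G)).out 0 4 rfl rfl |>.mp inferInstance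
  suffices hc : Commute (e.symm a) (e.symm b) by
    have := hc.map e
    simpa using this
  funext p P
  haveI : Fact (Nat.Prime (p : ℕ)) := ⟨Nat.prime_of_mem_primeFactors p.2⟩
  let π : ((∀ q : (Nat.card G).primeFactors, ∀ Q : Sylow q G, (↑Q : Subgroup G))) →* (P : Subgroup G) :=
    (Pi.evalMonoidHom (fun Q : Sylow p G => (↑Q : Subgroup G)) P).comp
      (Pi.evalMonoidHom (fun q : (Nat.card G).primeFactors => ∀ Q : Sylow q G, (↑Q : Subgroup G)) p)
  have ha : orderOf (π (e.symm a)) ∣ orderOf a := by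
    rw [← e.symm.orderOf_eq a]; exact orderOf_map_dvd π _
  have hb : orderOf (π (e.symm b)) ∣ orderOf b := by
    rw [← e.symm.orderOf_eq b]; exact orderOf_map_dvd π _
  obtain ⟨i, hi⟩ := IsPGroup.iff_orderOf.mp P.isPGroup' (π (e.symm a))
  obtain ⟨j, hj⟩ := IsPGroup.iff_orderOf.mp P.isPGroup' (π (e.symm b))
  show π (e.symm a) * π (e.symm b) = π (e.symm b) * π (e.symm a)
  rcases Nat.eq_zero_or_pos i with rfl | hipos
  · rw [pow_zero, orderOf_eq_one_iff] at hi; rw [hi, one_mul, mul_one]
  rcases Nat.eq_zero_or_pos j with rfl | hjpos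
  · rw [pow_zero, orderOf_eq_one_iff] at hj; rw [hj, one_mul, mul_one]
  exfalso
  have hp1 : (p : ℕ) ∣ orderOf a := (dvd_pow_self _ hipos.ne').trans (hi ▸ ha)
  have hp2 : (p : ℕ) ∣ orderOf b := (dvd_pow_self _ hjpos.ne').trans (hj ▸ hb)
  have hp := Nat.dvd_gcd hp1 hp2
  rw [h] at hp
  exact (Fact.out : Nat.Prime (p : ℕ)).one_lt.ne' (Nat.dvd_one.mp hp)

/-- A finite nilpotent group is the product of a Sylow subgroup and a commuting complement. -/
theorem exists_split {G : Type*} [Group G] [Finite G] [Group.IsNilpotent G] {p : ℕ} [Fact p.Prime]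
    (P : Sylow p G) :
    ∃ C : Subgroup G, (∀ g : G, ∃ a ∈ (P : Subgroup G), ∃ c ∈ C, g = a * c) ∧
      (∀ a ∈ (P : Subgroup G), ∀ c ∈ C, Commute a c) ∧
      Nat.card (P : Subgroup G) * Nat.card C = Nat.card G ∧
      Nat.Coprime (Nat.card (P : Subgroup G)) (Nat.card C) := by
  obtain ⟨C, hC⟩ := Subgroup.exists_right_complement'_of_coprime (N := (P : Subgroup G)) P.card_coprime_index
  have hcard := hC.card_mul_card
  have hCc : Nat.Coprime (Nat.card (P : Subgroup G)) (Nat.card C) := by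
    have := P.card_coprime_index
    rwa [(Subgroup.IsComplement'.symm hC).index_eq_card] at this
  refine ⟨C, ?_, ?_, hcard, hCc⟩
  · intro g
    obtain ⟨⟨⟨a, ha⟩, ⟨c, hc⟩⟩, rfl⟩ := hC.2 g
    exact ⟨a, ha, c, hc, rfl⟩
  · intro a ha c hc
    refine commute_of_coprime_order (Nat.Coprime.coprime_dvd_left ?_ (Nat.Coprime.coprime_dvd_right ?_ hCc))
    · exact Subgroup.orderOf_dvd_natCard _ ha
    · exact Subgroup.orderOf_dvd_natCard _ hc

theorem exists_pow_eq_left {G : Type*} [Group G] {a c : G} (h : Commute a c)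
    (hco : Nat.Coprime (orderOf a) (orderOf c)) : ∃ k : ℕ, (a * c) ^ k = a := by
  obtain ⟨k, hk1, hk2⟩ := Nat.chineseRemainder hco 1 0
  refine ⟨k, ?_⟩
  rw [h.mul_pow, pow_eq_pow_iff_modEq.mpr hk1, pow_one,
    orderOf_dvd_iff_pow_eq_one.mp (Nat.modEq_zero_iff_dvd.mp hk2), mul_one]

/-- A transitive group with commuting coprime factors acts as a product. -/
theorem orbit_product {α : Type*} {G : Type*} [Group G] [Finite G] [MulAction G α] [MulAction.IsPretransitive G α]
    (A B : Subgroup G) (hgen : ∀ g : G, ∃ a ∈ A, ∃ b ∈ B, g = a * b)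
    (hcomm : ∀ a ∈ A, ∀ b ∈ B, Commute a b) (hcard : Nat.card A * Nat.card B = Nat.card G)
    (hco : Nat.Coprime (Nat.card A) (Nat.card B)) (x : α) :
    Nat.card (MulAction.orbit A x) * Nat.card (MulAction.orbit B x) = Nat.card α := by
  set S := MulAction.stabilizer G x
  have hSa : ∀ a ∈ A, ∀ b ∈ B, a * b ∈ S → a ∈ S ∧ b ∈ S := by
    intro a ha b hb hab
    obtain ⟨k, hk⟩ := exists_pow_eq_left (hcomm a ha b hb)
      (Nat.Coprime.coprime_dvd_left (by exact Subgroup.orderOf_dvd_natCard _ ha)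
        (Nat.Coprime.coprime_dvd_right (by exact Subgroup.orderOf_dvd_natCard _ hb) hco))
    have haS : a ∈ S := hk ▸ S.pow_mem hab k
    exact ⟨haS, by simpa using S.mul_mem (S.inv_mem haS) hab⟩
  have hdisj : ∀ g ∈ A, g ∈ B → g = 1 := by
    intro g hgA hgB
    have h1 : orderOf g ∣ Nat.card A := by exact Subgroup.orderOf_dvd_natCard _ hgA
    have h2 : orderOf g ∣ Nat.card B := by exact Subgroup.orderOf_dvd_natCard _ hgB
    have h := Nat.dvd_gcd h1 h2
    rw [hco] at h
    exact orderOf_eq_one_iff.mp (Nat.dvd_one.mp h)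
  have hS : Nat.card S = Nat.card (MulAction.stabilizer A x) * Nat.card (MulAction.stabilizer B x) := by
    rw [← Nat.card_prod]
    refine (Nat.card_congr (Equiv.ofBijective
      (fun z : MulAction.stabilizer A x × MulAction.stabilizer B x =>
        (⟨(z.1 : A).1 * (z.2 : B).1, S.mul_mem z.1.2 z.2.2⟩ : S)) ⟨?_, ?_⟩)).symm
    · rintro ⟨⟨⟨a, ha⟩, ha'⟩, ⟨⟨b, hb⟩, hb'⟩⟩ ⟨⟨⟨c, hc⟩, hc'⟩, ⟨⟨d, hd⟩, hd'⟩⟩ h
      have h' : a * b = c * d := congrArg Subtype.val h
      have e : c⁻¹ * a = d * b⁻¹ := by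
        rw [eq_mul_inv_iff_mul_eq, mul_assoc, h', inv_mul_cancel_left]
      have := hdisj _ (A.mul_mem (A.inv_mem hc) ha) (e ▸ B.mul_mem hd (B.inv_mem hb))
      have hac : a = c := (inv_mul_eq_one.mp this).symm
      subst hac
      have hbd : b = d := mul_left_cancel h'
      subst hbd
      rfl
    · rintro ⟨g, hg⟩
      obtain ⟨a, ha, b, hb, rfl⟩ := hgen g
      obtain ⟨haS, hbS⟩ := hSa a ha b hb hg
      exact ⟨(⟨⟨a, ha⟩, haS⟩, ⟨⟨b, hb⟩, hbS⟩), rfl⟩
  have hA := (MulAction.stabilizer A x).index_mul_card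
  have hB := (MulAction.stabilizer B x).index_mul_card
  have hG := S.index_mul_card
  rw [MulAction.index_stabilizer_of_transitive] at hG
  rw [MulAction.index_stabilizer, ← Nat.card_coe_set_eq] at hA hB
  rw [← hA, ← hB, ← hG, hS] at hcard
  have hpos : 0 < Nat.card (MulAction.stabilizer A x) * Nat.card (MulAction.stabilizer B x) :=
    Nat.mul_pos Nat.card_pos Nat.card_pos
  refine Nat.eq_of_mul_eq_mul_right hpos ?_
  rw [← hcard]; ring

/-- One factor of a commuting product acts faithfully on each of its orbits. -/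
theorem orbit_faithful {α : Type*} {G : Type*} [Group G] [MulAction G α] [FaithfulSMul G α]
    [MulAction.IsPretransitive G α] (A B : Subgroup G) (hgen : ∀ g : G, ∃ a ∈ A, ∃ b ∈ B, g = a * b)
    (hcomm : ∀ a ∈ A, ∀ b ∈ B, Commute a b) (x : α) :
    Function.Injective (MulAction.toPermHom A (MulAction.orbit A x)) := by
  rw [← MonoidHom.ker_eq_bot_iff, eq_bot_iff]
  intro a ha
  rw [MonoidHom.mem_ker] at ha
  rw [Subgroup.mem_bot]
  apply Subtype.ext
  apply FaithfulSMul.eq_of_smul_eq_smul (α := α)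
  intro y
  rw [OneMemClass.coe_one, one_smul]
  obtain ⟨g, rfl⟩ := MulAction.exists_smul_eq G x y
  obtain ⟨a', ha', b, hb, rfl⟩ := hgen g
  rw [(hcomm a' ha' b hb).eq, mul_smul, ← mul_smul (a : G) b, (hcomm a a.2 b hb).eq, mul_smul]
  have h := Perm.congr_fun ha ⟨a' • x, ⟨⟨a', ha'⟩, rfl⟩⟩
  exact congrArg (b • ·) (congrArg Subtype.val h)

variable {α : Type*} [Fintype α] [DecidableEq α]

theorem isPGroup_two_le_twoFact {N : Subgroup (Perm α)} (h : IsPGroup 2 N) :
    Nat.card N ≤ twoFact (Fintype.card α) ∧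
      (2 ≤ Fintype.card α → N ≤ alternatingGroup α → 2 * Nat.card N ≤ twoFact (Fintype.card α)) := by
  haveI : Fact (Nat.Prime 2) := ⟨Nat.prime_two⟩
  obtain ⟨i, hi⟩ := IsPGroup.iff_card.mp h
  have key : ∀ j, 2 ^ j ∣ Nat.card (Perm α) → 2 ^ j ≤ twoFact (Fintype.card α) := by
    intro j hj
    rw [Nat.card_perm, Nat.card_eq_fintype_card,
      Nat.Prime.pow_dvd_iff_le_factorization Nat.prime_two (Nat.factorial_ne_zero _)] at hj
    exact Nat.pow_le_pow_right (by omega) hj
  refine ⟨?_, fun h2 hA => ?_⟩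
  · rw [hi]; exact key i (hi ▸ Subgroup.card_subgroup_dvd_card N)
  · haveI : Nontrivial α := Fintype.one_lt_card_iff_nontrivial.mp (by omega)
    rw [hi, ← pow_succ']
    apply key
    rw [pow_succ', ← hi, ← two_mul_nat_card_alternatingGroup (α := α)]
    exact mul_dvd_mul_left 2 (Subgroup.card_dvd_of_le hA)

/-- The bounds to be proved. -/
def Bounded {α : Type*} [Fintype α] [DecidableEq α] (N : Subgroup (Perm α)) : Prop :=
  2 * Nat.card N ≤ cap (Fintype.card α) ∧
    (N ≤ alternatingGroup α → 2 ≤ Fintype.card α →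
      ((Fintype.card α ≠ 3 → Fintype.card α ≠ 5 → Fintype.card α ≠ 6 → Fintype.card α ≠ 9 →
        4 * Nat.card N ≤ cap (Fintype.card α)) ∧ (Fintype.card α = 6 → Nat.card N ≤ 12)))

theorem cap_values : cap 1 = 2 ∧ cap 2 = 4 ∧ cap 3 = 6 ∧ cap 4 = 16 ∧ cap 5 = 16 ∧ cap 6 = 32 ∧ cap 7 = 48 ∧
    cap 8 = 256 ∧ cap 9 = 256 ∧ cap 10 = 512 ∧ cap 11 = 768 ∧ cap 12 = 2048 ∧ cap 14 = 4096 ∧
    cap 15 = 6144 ∧ cap 18 = 131072 := by
  simp [cap, twoFact_one, twoFact_two, twoFact_three, twoFact_four, twoFact_five, twoFact_six,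
    twoFact_seven, twoFact_eight, twoFact_nine, twoFact_ten, twoFact_eleven, twoFact_twelve,
    twoFact_fourteen, twoFact_fifteen, twoFact_eighteen]

/-- Case distinction for the product of two pieces of exceptional degree. -/
theorem even_product {b c x y z : ℕ} (hb : 1 ≤ b) (hc : 1 ≤ c) (hxyz : x ≤ y * z)
    (hy : 2 * y ≤ cap b) (hy' : 2 ≤ b → (b ≠ 3 → b ≠ 5 → b ≠ 6 → b ≠ 9 → 4 * y ≤ cap b) ∧ (b = 6 → y ≤ 12))
    (hz : 2 * z ≤ cap c) (hz' : 2 ≤ c → (c ≠ 3 → c ≠ 5 → c ≠ 6 → c ≠ 9 → 4 * z ≤ cap c) ∧ (c = 6 → z ≤ 12)) :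
    (b + c ≠ 3 → b + c ≠ 5 → b + c ≠ 6 → b + c ≠ 9 → 4 * x ≤ cap (b + c)) ∧ (b + c = 6 → x ≤ 12) := by
  have hgen : cap b * cap c ≤ 2 * cap (b + c) := cap_mul_le b c
  obtain ⟨c1, c2, c3, c4, c5, c6, c7, c8, c9, c10, c11, c12, c14, c15, c18⟩ := cap_values
  have main : ∀ y z u v : ℕ, x ≤ y * z → 4 * y ≤ u → 2 * z ≤ v → u * v ≤ 2 * cap (b + c) →
      (b + c ≠ 3 → b + c ≠ 5 → b + c ≠ 6 → b + c ≠ 9 → 4 * x ≤ cap (b + c)) ∧ (b + c = 6 → x ≤ 12) := by
    intro y z u v hx h1 h2 h3
    have h4 : 4 * x ≤ cap (b + c) := by nlinarith [Nat.mul_le_mul h1 h2]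
    refine ⟨fun _ _ _ _ => h4, fun h => ?_⟩
    rw [h, c6] at h4
    omega
  by_cases eb : 2 ≤ b ∧ b ≠ 3 ∧ b ≠ 5 ∧ b ≠ 6 ∧ b ≠ 9
  · exact main y z _ _ hxyz ((hy' eb.1).1 eb.2.1 eb.2.2.1 eb.2.2.2.1 eb.2.2.2.2) hz hgen
  by_cases ec : 2 ≤ c ∧ c ≠ 3 ∧ c ≠ 5 ∧ c ≠ 6 ∧ c ≠ 9
  · exact main z y _ _ (mul_comm y z ▸ hxyz) ((hz' ec.1).1 ec.2.1 ec.2.2.1 ec.2.2.2.1 ec.2.2.2.2) hy
      (mul_comm (cap b) (cap c) ▸ hgen)
  have hyB : y ≤ if b = 6 then 12 else cap b / 2 := by
    split_ifs with h
    · exact (hy' (by omega)).2 h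
    · omega
  have hzB : z ≤ if c = 6 then 12 else cap c / 2 := by
    split_ifs with h
    · exact (hz' (by omega)).2 h
    · omega
  have hx := hxyz.trans (Nat.mul_le_mul hyB hzB)
  clear main hgen hy hy' hz hz' hyB hzB hxyz
  rcases (show b = 1 ∨ b = 3 ∨ b = 5 ∨ b = 6 ∨ b = 9 by omega) with rfl | rfl | rfl | rfl | rfl <;>
    rcases (show c = 1 ∨ c = 3 ∨ c = 5 ∨ c = 6 ∨ c = 9 by omega) with rfl | rfl | rfl | rfl | rfl <;>
    norm_num [c1, c2, c3, c4, c5, c6, c7, c8, c9, c10, c11, c12, c14, c15, c18] at hx ⊢ <;>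
    omega

theorem isNilpotent_map {G H : Type*} [Group G] [Group H] (f : G →* H) (N : Subgroup G) [Group.IsNilpotent N] :
    Group.IsNilpotent (N.map f) :=
  Group.nilpotent_of_surjective (f.subgroupMap N) (f.subgroupMap_surjective N)

/-- The intransitive step. -/
theorem bounded_intransitive
    (ih : ∀ (β : Type) [Fintype β] [DecidableEq β], Fintype.card β < Fintype.card α →
      ∀ M : Subgroup (Perm β), Group.IsNilpotent M → Bounded M)
    (N : Subgroup (Perm α)) (hN : Group.IsNilpotent N) (O : α → Prop) [DecidablePred O]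
    (hO : ∀ g ∈ N, ∀ a, O (g a) ↔ O a) (h1 : ∃ a, O a) (h2 : ∃ a, ¬ O a) : Bounded N := by
  set b := Fintype.card {a // O a}
  set c := Fintype.card {a // ¬ O a}
  have hbc : b + c = Fintype.card α := by
    rw [← Fintype.card_sum]
    exact Fintype.card_congr (Equiv.sumCompl O)
  have hb : 1 ≤ b := Fintype.card_pos_iff.mpr ⟨⟨_, h1.choose_spec⟩⟩
  have hc : 1 ≤ c := Fintype.card_pos_iff.mpr ⟨⟨_, h2.choose_spec⟩⟩
  let eb : Fin b ≃ {a // O a} := (Fintype.equivFin _).symm
  let ec : Fin c ≃ {a // ¬ O a} := (Fintype.equivFin _).symm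
  let f1 : N →* Perm (Fin b) := (eb.symm.permCongrHom.toMonoidHom).comp
    { toFun := fun g => (g : Perm α).subtypePerm (fun a => hO g g.2 a)
      map_one' := by ext; rfl
      map_mul' := fun g h => by ext; rfl }
  let f2 : N →* Perm (Fin c) := (ec.symm.permCongrHom.toMonoidHom).comp
    { toFun := fun g => (g : Perm α).subtypePerm (p := fun a => ¬ O a) (fun a => not_congr (hO g g.2 a))
      map_one' := by ext; rfl
      map_mul' := fun g h => by ext; rfl }
  have hsign : ∀ g : N, Perm.sign (g : Perm α) = Perm.sign (f1 g) * Perm.sign (f2 g) := by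
    intro g
    have e1 : Perm.sign (f1 g) = Perm.sign ((g : Perm α).subtypePerm (fun a => hO g g.2 a) : Perm {a // O a}) :=
      Perm.sign_permCongr _ _
    have e2 : Perm.sign (f2 g) = Perm.sign ((g : Perm α).subtypePerm (p := fun a => ¬ O a)
        (fun a => not_congr (hO g g.2 a)) : Perm {a // ¬ O a}) :=
      Perm.sign_permCongr _ _
    rw [e1, e2, ← Perm.sign_ofSubtype ((g : Perm α).subtypePerm (p := O) (fun a => hO g g.2 a)),
      ← Perm.sign_ofSubtype ((g : Perm α).subtypePerm (p := fun a => ¬ O a) (fun a => not_congr (hO g g.2 a))),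
      ← map_mul]
    congr 1
    ext a
    by_cases ha : O a
    · rw [Perm.mul_apply, Perm.ofSubtype_apply_of_not_mem (p := fun a => ¬ O a) _ (not_not.mpr ha),
        Perm.ofSubtype_apply_of_mem _ ha]
      rfl
    · have hga : ¬ O ((g : Perm α) a) := fun h => ha ((hO g g.2 a).mp h)
      rw [Perm.mul_apply, Perm.ofSubtype_apply_of_mem (p := fun a => ¬ O a) _ ha]
      show (g : Perm α) a = Perm.ofSubtype ((g : Perm α).subtypePerm (p := O) _) ((g : Perm α) a)
      rw [Perm.ofSubtype_apply_of_not_mem (p := O) _ hga]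
  have hinj : Function.Injective (fun g : N => ((⟨f1 g, g, rfl⟩ : f1.range), (⟨f2 g, g, rfl⟩ : f2.range))) := by
    intro g h hgh
    have e1 : ((g : Perm α).subtypePerm (fun a => hO g g.2 a) : Perm {a // O a}) =
        (h : Perm α).subtypePerm (fun a => hO h h.2 a) :=
      eb.symm.permCongrHom.injective (congrArg (fun z => (z.1 : Perm (Fin b))) hgh)
    have e2 : ((g : Perm α).subtypePerm (p := fun a => ¬ O a) (fun a => not_congr (hO g g.2 a)) : Perm {a // ¬ O a}) =
        (h : Perm α).subtypePerm (p := fun a => ¬ O a) (fun a => not_congr (hO h h.2 a)) :=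
      ec.symm.permCongrHom.injective (congrArg (fun z => (z.2 : Perm (Fin c))) hgh)
    apply Subtype.ext
    ext a
    by_cases ha : O a
    · exact congrArg Subtype.val (Perm.congr_fun e1 ⟨a, ha⟩)
    · exact congrArg Subtype.val (Perm.congr_fun e2 ⟨a, ha⟩)
  have hn1 : Group.IsNilpotent f1.range := Group.nilpotent_of_surjective f1.rangeRestrict f1.rangeRestrict_surjective
  have hn2 : Group.IsNilpotent f2.range := Group.nilpotent_of_surjective f2.rangeRestrict f2.rangeRestrict_surjective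
  obtain ⟨hy, hy'⟩ := ih (Fin b) (by rw [Fintype.card_fin]; omega) f1.range hn1
  obtain ⟨hz, hz'⟩ := ih (Fin c) (by rw [Fintype.card_fin]; omega) f2.range hn2
  rw [Fintype.card_fin] at hy hy' hz hz'
  have hle := Nat.card_le_card_of_injective _ hinj
  rw [Nat.card_prod] at hle
  have hgen := cap_mul_le b c
  rw [hbc] at hgen
  refine ⟨by nlinarith [Nat.mul_le_mul hy hz], fun hA _ => ?_⟩
  by_cases hodd : f1.range ≤ alternatingGroup (Fin b)
  · have hodd2 : f2.range ≤ alternatingGroup (Fin c) := by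
      rintro _ ⟨g, rfl⟩
      have h := hsign g
      rw [Perm.mem_alternatingGroup.mp (hA g.2), Perm.mem_alternatingGroup.mp (hodd ⟨g, rfl⟩), one_mul] at h
      exact Perm.mem_alternatingGroup.mpr h.symm
    rw [← hbc]
    exact even_product hb hc hle hy (hy' hodd) hz (hz' hodd2)
  · obtain ⟨u, hu, hus⟩ := SetLike.not_le_iff_exists.mp hodd
    obtain ⟨gu, hgu⟩ := hu
    have hlt : 2 * Nat.card N ≤ Nat.card f1.range * Nat.card f2.range := by
      let φ : N →* f1.range × f2.range := f1.rangeRestrict.prod f2.rangeRestrict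
      have hφ : Function.Injective φ := hinj
      have hne : φ.range ≠ ⊤ := by
        intro htop
        obtain ⟨g, hg⟩ : ((⟨u, gu, hgu⟩ : f1.range), (1 : f2.range)) ∈ φ.range := htop ▸ trivial
        have h := hsign g
        rw [Perm.mem_alternatingGroup.mp (hA g.2)] at h
        have e1 : f1 g = u := congrArg (fun z => (z.1 : Perm (Fin b))) hg
        have e2 : f2 g = 1 := congrArg (fun z => (z.2 : Perm (Fin c))) hg
        rw [e1, e2, map_one, mul_one] at h
        exact hus (Perm.mem_alternatingGroup.mpr h.symm)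
      rw [← Nat.card_prod, ← φ.range.index_mul_card, ← Nat.card_congr (MonoidHom.ofInjective hφ).toEquiv]
      apply Nat.mul_le_mul_right
      have := Subgroup.index_ne_zero_of_finite (H := φ.range)
      have : φ.range.index ≠ 1 := fun h => hne (Subgroup.index_eq_one.mp h)
      omega
    have h4 : 4 * Nat.card N ≤ cap (Fintype.card α) := by nlinarith [Nat.mul_le_mul hy hz]
    refine ⟨fun _ _ _ _ => h4, fun h => ?_⟩
    rw [h, cap_values.2.2.2.2.2.1] at h4
    omega

/-- Main bound. -/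
theorem bounded : ∀ (n : ℕ) (α : Type) [Fintype α] [DecidableEq α], Fintype.card α = n →
    ∀ N : Subgroup (Perm α), Group.IsNilpotent N → Bounded N := by
  intro n
  induction n using Nat.strong_induction_on with
  | _ n ih =>
    intro α _ _ hn N hN
    obtain ⟨c1, c2, c3, c4, c5, c6, c7, c8, c9, c10, c11, c12, c14, c15, c18⟩ := cap_values
    rcases Nat.lt_or_ge n 2 with hn2 | hn2
    · haveI : Subsingleton α := Fintype.card_le_one_iff_subsingleton.mp (by omega)
      have : Nat.card N = 1 := Nat.card_eq_one_iff_unique.mpr ⟨inferInstance, ⟨1⟩⟩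
      refine ⟨?_, fun _ h => by omega⟩
      rw [this]
      have := twoFact_pos (Fintype.card α)
      have := two_twoFact_le_cap (Fintype.card α)
      omega
    obtain ⟨x⟩ : Nonempty α := Fintype.card_pos_iff.mp (by omega)
    classical
    by_cases htr : ∀ y, y ∈ MulAction.orbit N x
    swap
    · push Not at htr
      refine bounded_intransitive (fun β _ _ hβ M hM => ih _ (hn ▸ hβ) β rfl M hM) N hN
        (fun a => a ∈ MulAction.orbit N x) ?_ ⟨x, MulAction.mem_orbit_self x⟩ htr
      intro g hg a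
      show (⟨g, hg⟩ : N) • a ∈ MulAction.orbit N x ↔ a ∈ MulAction.orbit N x
      constructor
      · rintro ⟨h, hh⟩
        exact ⟨(⟨g, hg⟩ : N)⁻¹ * h, by
          show ((⟨g, hg⟩ : N)⁻¹ * h) • x = a
          rw [mul_smul, inv_smul_eq_iff]; exact hh⟩
      · rintro ⟨h, hh⟩
        exact ⟨(⟨g, hg⟩ : N) * h, by
          show ((⟨g, hg⟩ : N) * h) • x = (⟨g, hg⟩ : N) • a
          rw [mul_smul]; exact congrArg _ hh⟩
    haveI : MulAction.IsPretransitive N α :=
      ⟨fun y z => by
        obtain ⟨g, hg⟩ := htr y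
        obtain ⟨h, hh⟩ := htr z
        exact ⟨h * g⁻¹, by rw [mul_smul, ← hg, inv_smul_smul]; exact hh⟩⟩
    rcases Nat.eq_zero_or_pos ((Nat.card N).primeFactors.erase 2).card with h0 | hpos
    · have h2g : IsPGroup 2 N := by
        apply IsPGroup.of_card (n := (Nat.card N).factorization 2)
        refine Nat.eq_pow_of_factorization_eq_single Nat.card_pos.ne' ?_
        ext q
        rw [Finsupp.single_apply]
        split_ifs with hq
        · rw [hq]
        · rw [← Finsupp.notMem_support_iff, Nat.support_factorization]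
          intro hmem
          exact Finset.notMem_empty q (Finset.card_eq_zero.mp h0 ▸ Finset.mem_erase.mpr ⟨Ne.symm hq, hmem⟩)
      obtain ⟨h1, h2⟩ := isPGroup_two_le_twoFact h2g
      rw [hn] at h1 h2
      have := two_twoFact_le_cap n
      refine ⟨by rw [hn]; omega, fun hA h => ?_⟩
      have := h2 hn2 hA
      rw [hn]
      refine ⟨fun _ _ _ _ => by omega, fun h6 => ?_⟩
      subst h6
      rw [twoFact_six] at *
      omega
    obtain ⟨p, hpmem⟩ := Finset.card_pos.mp hpos
    obtain ⟨hp2, hpf⟩ := Finset.mem_erase.mp hpmem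
    obtain ⟨hp, hpd, -⟩ := Nat.mem_primeFactors.mp hpf
    haveI : Fact p.Prime := ⟨hp⟩
    obtain ⟨P⟩ : Nonempty (Sylow p N) := inferInstance
    obtain ⟨C, hgen, hcomm, hcard, hco⟩ := exists_split P
    have hgen' : ∀ g : N, ∃ a ∈ C, ∃ b ∈ (P : Subgroup N), g = a * b := by
      intro g
      obtain ⟨a, ha, c, hc, rfl⟩ := hgen g
      exact ⟨c, hc, a, ha, (hcomm a ha c hc).eq⟩
    have hcomm' : ∀ a ∈ C, ∀ b ∈ (P : Subgroup N), Commute a b := fun a ha b hb => (hcomm b hb a ha).symm
    set OA := MulAction.orbit (P : Subgroup N) x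
    set OB := MulAction.orbit C x
    have hfP : Function.Injective (MulAction.toPermHom (P : Subgroup N) OA) :=
      orbit_faithful (P : Subgroup N) C hgen hcomm x
    have hfC : Function.Injective (MulAction.toPermHom C OB) :=
      orbit_faithful C (P : Subgroup N) hgen' hcomm' x
    have hab : Nat.card OA * Nat.card OB = n := by
      rw [orbit_product (P : Subgroup N) C hgen hcomm hcard hco x, Nat.card_eq_fintype_card, hn]
    obtain ⟨i, hi⟩ : ∃ i, Nat.card OA = p ^ i := P.isPGroup'.card_orbit x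
    have hidvd : p ∣ Nat.card (P : Subgroup N) := P.dvd_card_of_dvd_card hpd
    have hi1 : 1 ≤ i := by
      by_contra hlt
      have h1 : Nat.card OA = 1 := by rw [hi, show i = 0 by omega, pow_zero]
      haveI : Subsingleton OA := (Nat.card_eq_one_iff_unique.mp h1).1
      haveI : Subsingleton (P : Subgroup N) := ⟨fun a b => hfP (Subsingleton.elim _ _)⟩
      rw [Nat.card_eq_one_iff_unique.mpr ⟨inferInstance, ⟨1⟩⟩] at hidvd
      exact hp.one_lt.ne' (Nat.dvd_one.mp hidvd)
    have hOA3 : 3 ≤ Nat.card OA := by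
      rw [hi]
      have := hp.two_le
      calc 3 ≤ p ^ 1 := by rw [pow_one]; omega
        _ ≤ p ^ i := Nat.pow_le_pow_right hp.pos hi1
    have hOBpos : 1 ≤ Nat.card OB := by
      haveI : Nonempty OB := ⟨⟨x, MulAction.mem_orbit_self x⟩⟩
      exact Nat.card_pos
    rcases Nat.lt_or_ge (Nat.card OB) 2 with hb1 | hb2
    · have hOB : Nat.card OB = 1 := by omega
      haveI : Subsingleton OB := (Nat.card_eq_one_iff_unique.mp hOB).1
      haveI : Subsingleton C := ⟨fun a b => hfC (Subsingleton.elim _ _)⟩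
      rw [hOB, mul_one] at hab
      rw [(Nat.card_eq_one_iff_unique (α := C)).mpr ⟨inferInstance, ⟨1⟩⟩, mul_one] at hcard
      have hdvd : Nat.card N ∣ p ^ (n.factorial.factorization p) := by
        obtain ⟨j, hj⟩ := IsPGroup.iff_card.mp P.isPGroup'
        have h := Subgroup.card_subgroup_dvd_card N
        rw [← hcard, hj, Nat.card_perm, Nat.card_eq_fintype_card, hn] at h
        rw [← hcard, hj]
        exact pow_dvd_pow p ((hp.pow_dvd_iff_le_factorization (Nat.factorial_ne_zero _)).mp h)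
      obtain ⟨hg, h3, h5, h9⟩ := prime_power_bound hp hp2 (hab ▸ hi) hi1 hdvd
      have hcapn := two_twoFact_le_cap n
      have h6 : n ≠ 6 := by
        intro h
        have h6' : p ^ i = 6 := by rw [← hi, hab, h]
        have hd3 : 3 ∣ p ^ i := by rw [h6']; norm_num
        have hp3 := (Nat.prime_dvd_prime_iff_eq Nat.prime_three hp).mp (Nat.prime_three.dvd_of_dvd_pow hd3)
        have hd2 : 2 ∣ p ^ i := by rw [h6']; norm_num
        have := (Nat.prime_dvd_prime_iff_eq Nat.prime_two hp).mp (Nat.prime_two.dvd_of_dvd_pow hd2)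
        omega
      unfold Bounded
      rw [hn]
      refine ⟨?_, fun _ _ => ⟨fun e3 e5 _ e9 => by have := hg e3 e5 e9; omega, fun h => absurd h h6⟩⟩
      by_cases e3 : n = 3
      · have := h3 e3; rw [e3, c3]; omega
      by_cases e5 : n = 5
      · have := h5 e5; rw [e5, c5]; omega
      by_cases e9 : n = 9
      · have := h9 e9; rw [e9, c9]; omega
      have := hg e3 e5 e9; omega
    · have hA : 2 * Nat.card (P : Subgroup N) ≤ cap (Nat.card OA) := by
        have hlt : Nat.card OA < n := by rw [← hab]; exact lt_mul_of_one_lt_right (by omega) (by omega)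
        let e : OA ≃ Fin (Nat.card OA) := Finite.equivFin OA
        let f : (P : Subgroup N) →* Perm (Fin (Nat.card OA)) :=
          e.permCongrHom.toMonoidHom.comp (MulAction.toPermHom (P : Subgroup N) OA)
        have hf : Function.Injective f := e.permCongrHom.injective.comp hfP
        haveI : Group.IsNilpotent (P : Subgroup N) := P.isPGroup'.isNilpotent
        have := (ih _ hlt (Fin (Nat.card OA)) (Fintype.card_fin _) f.range
          (Group.nilpotent_of_surjective f.rangeRestrict f.rangeRestrict_surjective)).1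
        rwa [Fintype.card_fin, ← Nat.card_congr (MonoidHom.ofInjective hf).toEquiv] at this
      have hB : 2 * Nat.card C ≤ cap (Nat.card OB) := by
        have hlt : Nat.card OB < n := by rw [← hab]; exact lt_mul_of_one_lt_left (by omega) (by omega)
        let e : OB ≃ Fin (Nat.card OB) := Finite.equivFin OB
        let f : C →* Perm (Fin (Nat.card OB)) :=
          e.permCongrHom.toMonoidHom.comp (MulAction.toPermHom C OB)
        have hf : Function.Injective f := e.permCongrHom.injective.comp hfC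
        have := (ih _ hlt (Fin (Nat.card OB)) (Fintype.card_fin _) f.range
          (Group.nilpotent_of_surjective f.rangeRestrict f.rangeRestrict_surjective)).1
        rwa [Fintype.card_fin, ← Nat.card_congr (MonoidHom.ofInjective hf).toEquiv] at this
      have hx : 4 * Nat.card N ≤ cap (Nat.card OA) * cap (Nat.card OB) := by
        rw [← hcard]
        calc 4 * (Nat.card (P : Subgroup N) * Nat.card C)
            = (2 * Nat.card (P : Subgroup N)) * (2 * Nat.card C) := by ring
          _ ≤ _ := Nat.mul_le_mul hA hB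
      have hodd : Nat.card OA % 2 = 1 := by
        rw [hi, ← Nat.odd_iff]; exact (hp.odd_of_ne_two hp2).pow
      have hco' : Nat.Coprime (Nat.card OA) (Nat.card OB) := by
        have hd : Nat.card OB ∣ Nat.card C := by
          have h := (MulAction.stabilizer C x).index_mul_card
          rw [MulAction.index_stabilizer, ← Nat.card_coe_set_eq] at h
          exact Dvd.intro _ h
        rw [hi]
        have hpc : Nat.Coprime p (Nat.card OB) :=
          Nat.Coprime.coprime_dvd_right hd (Nat.Coprime.coprime_dvd_left hidvd hco)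
        exact hpc.pow_left i
      unfold Bounded
      rw [hn]
      by_cases e32 : Nat.card OA = 3 ∧ Nat.card OB = 2
      · rw [e32.1, e32.2, c3, c2] at hx
        have h6 : n = 6 := by rw [← hab, e32.1, e32.2]
        rw [h6, c6]
        omega
      by_cases e52 : Nat.card OA = 5 ∧ Nat.card OB = 2
      · rw [e52.1, e52.2, c5, c2] at hx
        have h10 : n = 10 := by rw [← hab, e52.1, e52.2]
        rw [h10, c10]
        omega
      have hsp := split_bound hOA3 hodd hb2 hco' e32 e52
      rw [hab] at hsp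
      have := two_twoFact_le_cap n
      refine ⟨by omega, fun _ _ => ⟨fun _ _ _ _ => by omega, fun h => ?_⟩⟩
      rw [h, twoFact_six] at hsp
      omega

end CfsgLib.NilpPerm
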