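import Mathlib
import Cfsg.Agent.Lib.NilpPerm.Bound

/-!
Sylow orders and the extremal nilpotent permutation groups in degree 3 mod 4.
-/

set_option autoImplicit false

namespace CfsgLib.NilpPerm

open Equiv

theorem card_sylow_perm (n : ℕ) (P : Sylow 2 (Perm (Fin n))) :
    Nat.card (P : Subgroup (Perm (Fin n))) = twoFact n := by
  haveI : Fact (Nat.Prime 2) := ⟨Nat.prime_two⟩
  rw [P.card_eq_multiplicity, Nat.card_perm, Nat.card_fin, twoFact]

theorem card_sylow_alt (n : ℕ) (hn : 2 ≤ n) (P : Sylow 2 (alternatingGroup (Fin n))) :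
    2 * Nat.card (P : Subgroup (alternatingGroup (Fin n))) = twoFact n := by
  haveI : Fact (Nat.Prime 2) := ⟨Nat.prime_two⟩
  haveI : Nontrivial (Fin n) := Fin.nontrivial_iff_two_le.mpr hn
  have h := two_mul_nat_card_alternatingGroup (α := Fin n)
  rw [Nat.card_perm, Nat.card_fin] at h
  rw [P.card_eq_multiplicity, twoFact, ← h, Nat.factorization_mul (by norm_num) Nat.card_pos.ne',
    Finsupp.add_apply, Nat.prime_two.factorization_self, pow_add, pow_one]

/-- The permutations fixing `s` pointwise. -/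
def fixOn {α : Type*} (s : Set α) : Subgroup (Perm α) where
  carrier := {g | ∀ a ∈ s, g a = a}
  one_mem' := fun _ _ => rfl
  mul_mem' := fun {g h} hg hh a ha => by rw [Perm.mul_apply, hh a ha, hg a ha]
  inv_mem' := fun {g} hg a ha => by rw [Perm.inv_eq_iff_eq, hg a ha]

variable {α : Type*} [Fintype α] [DecidableEq α]

theorem card_fixOn (s : Finset α) :
    Nat.card (fixOn (s : Set α)) = (Fintype.card α - s.card).factorial := by
  classical
  let e := Equiv.Perm.subtypeEquivSubtypePerm (fun a : α => a ∉ s)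
  have h : Nat.card (fixOn (s : Set α)) = Nat.card {f : Perm α // ∀ a, ¬ (a ∉ s) → f a = a} :=
    Nat.card_congr (Equiv.subtypeEquivRight fun f => by
      show (∀ a ∈ (s : Set α), f a = a) ↔ _
      simp)
  rw [h, ← Nat.card_congr e, Nat.card_perm, Nat.card_eq_fintype_card, Fintype.card_subtype_compl,
    Fintype.card_coe]

theorem card_inf_alt (K : Subgroup (Perm α)) {τ : Perm α} (hτ : τ ∈ K) (hs : Perm.sign τ = -1) :
    2 * Nat.card (K ⊓ alternatingGroup α : Subgroup (Perm α)) = Nat.card K := by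
  let φ : K →* ℤˣ := Perm.sign.comp K.subtype
  have hsurj : Function.Surjective φ := by
    intro u
    rcases Int.units_eq_one_or u with rfl | rfl
    · exact ⟨1, map_one _⟩
    · exact ⟨⟨τ, hτ⟩, hs⟩
  have hk := φ.ker.index_mul_card
  rw [Subgroup.index_ker, MonoidHom.range_eq_top.mpr hsurj, Subgroup.card_top] at hk
  have hker : Nat.card φ.ker = Nat.card (K ⊓ alternatingGroup α : Subgroup (Perm α)) := by
    rw [← Subgroup.card_map_of_injective (K := φ.ker) (Subgroup.subtype_injective K)]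
    congr 2
    ext g
    constructor
    · rintro ⟨x, hx, rfl⟩
      exact ⟨x.2, Perm.mem_alternatingGroup.mpr hx⟩
    · rintro ⟨hg, hga⟩
      exact ⟨⟨g, hg⟩, Perm.mem_alternatingGroup.mp hga, rfl⟩
  rw [hker, Nat.card_eq_fintype_card (α := ℤˣ), Fintype.card_units_int] at hk
  exact hk

theorem small_centralizer {n j : ℕ} (hn : n % 4 = 3) (hj : 2 ≤ j) (hjn : 3 * j ≤ n) :
    4 * (twoFact j * twoFact (n - 3 * j)) ≤ twoFact (n - 3) := by
  rcases Nat.lt_or_ge j 3 with h | h
  · have hj2 : j = 2 := by omega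
    subst hj2
    obtain ⟨t, rfl⟩ : ∃ t, n = 4 * t + 7 := ⟨n / 4 - 1, by omega⟩
    rw [show 4 * t + 7 - 3 * 2 = 2 * (2 * t) + 1 by omega, twoFact_two_mul_add_one, twoFact_two,
      show 4 * t + 7 - 3 = 2 * (2 * t) + 4 by omega]
    have := twoFact_mul_le (2 * (2 * t)) 4
    rw [twoFact_four] at this
    omega
  · have h4 : 4 * twoFact j ≤ twoFact (3 * j - 3) := by
      rcases Nat.lt_or_ge j 4 with h' | h'
      · have hj3 : j = 3 := by omega
        subst hj3
        rw [twoFact_three, show 3 * 3 - 3 = 6 from rfl, twoFact_six]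
        norm_num
      · have h1 := eight_le_twoFact (show 4 ≤ 2 * j - 3 by omega)
        have h2 := twoFact_mul_le j (2 * j - 3)
        rw [show j + (2 * j - 3) = 3 * j - 3 by omega] at h2
        have := twoFact_pos j
        nlinarith
    calc 4 * (twoFact j * twoFact (n - 3 * j)) = (4 * twoFact j) * twoFact (n - 3 * j) := by ring
      _ ≤ twoFact (3 * j - 3) * twoFact (n - 3 * j) := Nat.mul_le_mul_right _ h4
      _ ≤ _ := (twoFact_mul_le _ _).trans (le_of_eq (by congr 1; omega))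

/-- A large nilpotent subgroup with odd part of order three is a three-cycle times a fixator 2-group. -/
theorem large_shape (hn : Fintype.card α % 4 = 3) (N : Subgroup (Perm α)) (hN : Group.IsNilpotent N)
    (hfac : ∃ u, Nat.card N = 3 * 2 ^ u ∧ twoFact (Fintype.card α - 3) ≤ 2 * 2 ^ u) :
    ∃ (q : Perm α) (C : Subgroup (Perm α)), q.IsThreeCycle ∧ q ∈ N ∧ C ≤ N ∧
      C ≤ fixOn (q.support : Set α) ∧ 3 * Nat.card C = Nat.card N := by
  obtain ⟨u, hcardN, hlow⟩ := hfac
  haveI : Fact (Nat.Prime 3) := ⟨Nat.prime_three⟩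
  obtain ⟨P⟩ : Nonempty (Sylow 3 N) := inferInstance
  obtain ⟨C, -, hcomm, hcard, hco⟩ := exists_split P
  have hP3 : Nat.card (P : Subgroup N) = 3 := by
    rw [P.card_eq_multiplicity, hcardN, Nat.factorization_mul (by norm_num) (by positivity),
      Finsupp.add_apply, Nat.prime_three.factorization_self, Nat.prime_two.factorization_pow,
      Finsupp.single_eq_of_ne (by norm_num), add_zero, pow_one]
  have hC : Nat.card C = 2 ^ u := by
    rw [hP3, hcardN] at hcard
    omega
  obtain ⟨q, hq⟩ := exists_prime_orderOf_dvd_card' (G := (P : Subgroup N)) 3 (by rw [hP3])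
  have hqord : orderOf ((q : N) : Perm α) = 3 := by rw [Subgroup.orderOf_coe, Subgroup.orderOf_coe, hq]
  set q' : Perm α := ((q : N) : Perm α)
  obtain ⟨j, hj⟩ := Perm.cycleType_prime_order (σ := q') (by rw [hqord]; exact Nat.prime_three)
  rw [hqord] at hj
  have hCq : C.map N.subtype ≤ Subgroup.centralizer {q'} := by
    rintro _ ⟨c, hc, rfl⟩
    rw [Subgroup.mem_centralizer_singleton_iff]
    exact (congrArg Subtype.val (hcomm q.1 q.2 c hc).eq).symm
  have hsum : 3 * (j + 1) ≤ Fintype.card α := by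
    have h := Finset.card_le_univ q'.support
    rw [← Perm.sum_cycleType, hj, Multiset.sum_replicate, smul_eq_mul] at h
    omega
  have hj0 : j = 0 := by
    by_contra hne
    have hd := Subgroup.card_dvd_of_le hCq
    rw [Subgroup.card_map_of_injective N.subtype_injective, hC, Perm.nat_card_centralizer, hj,
      Multiset.sum_replicate, Multiset.prod_replicate, Multiset.toFinset_replicate, if_neg (by omega),
      Finset.prod_singleton, Multiset.count_replicate_self, smul_eq_mul, mul_comm (j + 1) 3] at hd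
    have hd' : 2 ^ u ∣ (Fintype.card α - 3 * (j + 1)).factorial * (j + 1).factorial := by
      refine (Nat.Coprime.pow u (j + 1) (by norm_num : Nat.Coprime 2 3)).dvd_of_dvd_mul_left ?_
      convert hd using 1
      ring
    rw [Nat.Prime.pow_dvd_iff_le_factorization Nat.prime_two
      (mul_ne_zero (Nat.factorial_ne_zero _) (Nat.factorial_ne_zero _)),
      Nat.factorization_mul (Nat.factorial_ne_zero _) (Nat.factorial_ne_zero _), Finsupp.add_apply] at hd'
    have h1 : 2 ^ u ≤ twoFact (j + 1) * twoFact (Fintype.card α - 3 * (j + 1)) := by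
      rw [twoFact, twoFact, ← pow_add]
      exact Nat.pow_le_pow_right (by omega) (by omega)
    have h2 := small_centralizer hn (show 2 ≤ j + 1 by omega) hsum
    have := twoFact_pos (Fintype.card α - 3)
    omega
  subst hj0
  have h3 : q'.IsThreeCycle := hj
  refine ⟨q', C.map N.subtype, h3, (q : N).2, Subgroup.map_subtype_le C, ?_, ?_⟩
  · rintro _ ⟨c, hc, rfl⟩ a ha
    have hcomm' : Commute q' (c : Perm α) := congrArg Subtype.val (hcomm q.1 q.2 c hc).eq
    have hqa : q' a ≠ a := Perm.mem_support.mp ha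
    have hqca : q' ((c : Perm α) a) ≠ (c : Perm α) a := by
      intro h
      have : (c : Perm α) (q' a) = (c : Perm α) a := by
        rw [← Perm.mul_apply, ← hcomm'.eq, Perm.mul_apply, h]
      exact hqa ((c : Perm α).injective this)
    obtain ⟨i, hi⟩ := h3.isCycle.sameCycle hqa hqca
    have hpow : ∀ k : ℕ, ((c : Perm α) ^ k) a = (q' ^ (i * k)) a := by
      intro k
      induction k with
      | zero => simp
      | succ k ih =>
        rw [pow_succ, Perm.mul_apply, ← hi, ← Perm.mul_apply,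
          ((hcomm'.symm.pow_left k).zpow_right i).eq, Perm.mul_apply, ih, ← Perm.mul_apply, ← zpow_add]
        congr 2
        push_cast
        ring
    have hord : orderOf c ∣ 2 ^ u := by rw [← hC]; exact Subgroup.orderOf_dvd_natCard _ hc
    have h0 := hpow (2 ^ u)
    rw [← Subgroup.coe_pow, orderOf_dvd_iff_pow_eq_one.mp hord, OneMemClass.coe_one, Perm.one_apply] at h0
    have h1 : q' ^ (i * ((2 ^ u : ℕ) : ℤ)) = 1 := by
      have hk : q' ^ ((i * ((2 ^ u : ℕ) : ℤ)) % (orderOf q' : ℤ)).toNat = q' ^ (i * ((2 ^ u : ℕ) : ℤ)) := by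
        rw [← zpow_natCast, Int.toNat_of_nonneg (Int.emod_nonneg _ (by rw [hqord]; norm_num)), zpow_mod_orderOf]
      rw [← hk]
      refine (Perm.IsCycle.pow_eq_one_iff' h3.isCycle hqa).mpr ?_
      rw [hk]
      exact h0.symm
    rw [← orderOf_dvd_iff_zpow_eq_one, hqord] at h1
    have h2 : ((3 : ℕ) : ℤ) ∣ i := by
      rcases (Nat.prime_iff_prime_int.mp Nat.prime_three).dvd_or_dvd h1 with h | h
      · exact h
      · exfalso
        rw [Int.natCast_dvd_natCast] at h
        have := (Nat.prime_dvd_prime_iff_eq Nat.prime_three Nat.prime_two).mp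
          (Nat.prime_three.dvd_of_dvd_pow h)
        omega
    show (c : Perm α) a = a
    rw [← hi, orderOf_dvd_iff_zpow_eq_one.mp (by rw [hqord]; exact h2), Perm.one_apply]
  · rw [Subgroup.card_map_of_injective N.subtype_injective, hC, hcardN]

theorem disjoint_commute {q h : Perm α} (hh : h ∈ fixOn (q.support : Set α)) : Commute h q := by
  apply Perm.Disjoint.commute
  intro x
  by_cases hx : x ∈ q.support
  · exact Or.inl (hh x hx)
  · exact Or.inr (Perm.notMem_support.mp hx)

/-- Extremal subgroups inside the symmetric or the alternating group are conjugate. -/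
theorem conj_of_shape (G : Subgroup (Perm α)) (hn : 7 ≤ Fintype.card α ∨ G = ⊤)
    (hG : G = ⊤ ∨ G = alternatingGroup α) {N₁ N₂ : Subgroup (Perm α)} (hN1 : N₁ ≤ G) (hN2 : N₂ ≤ G)
    {q₁ q₂ : Perm α} {C₁ C₂ : Subgroup (Perm α)} (h1 : q₁.IsThreeCycle) (h2 : q₂.IsThreeCycle)
    (hq1 : q₁ ∈ N₁) (hq2 : q₂ ∈ N₂) (hC1 : C₁ ≤ N₁) (hC2 : C₂ ≤ N₂)
    (hf1 : C₁ ≤ fixOn (q₁.support : Set α)) (hf2 : C₂ ≤ fixOn (q₂.support : Set α))
    (hcard : Nat.card C₁ = Nat.card C₂) (hN : Nat.card N₁ = Nat.card N₂)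
    (hN' : 3 * Nat.card C₂ = Nat.card N₂) {u : ℕ} (hu : Nat.card C₂ = 2 ^ u)
    (hmax : u = (Nat.card (fixOn (q₂.support : Set α) ⊓ G : Subgroup (Perm α))).factorization 2) :
    ∃ g ∈ G, N₂ = N₁.map (MulAut.conj g).toMonoidHom := by
  haveI : Fact (Nat.Prime 2) := ⟨Nat.prime_two⟩
  obtain ⟨g0, hg0⟩ := isConj_iff.mp ((Perm.isConj_iff_cycleType_eq (σ := q₁) (τ := q₂)).mpr (h1.trans h2.symm))
  obtain ⟨g, hgG, hg⟩ : ∃ g ∈ G, g * q₁ * g⁻¹ = q₂ := by
    rcases hG with rfl | rfl
    · exact ⟨g0, trivial, hg0⟩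
    rcases Int.units_eq_one_or (Perm.sign g0) with h | h
    · exact ⟨g0, Perm.mem_alternatingGroup.mpr h, hg0⟩
    have h7 : 7 ≤ Fintype.card α := by
      rcases hn with h7 | htop
      · exact h7
      · exfalso
        have hodd : g0 ∈ alternatingGroup α := htop ▸ trivial
        rw [Perm.mem_alternatingGroup, h] at hodd
        exact absurd hodd (by decide)
    obtain ⟨a, ha, b, hb, hab⟩ := Finset.one_lt_card.mp (show 1 < q₂.supportᶜ.card by
      rw [Finset.card_compl, h2.card_support]; omega)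
    rw [Finset.mem_compl] at ha hb
    refine ⟨swap a b * g0, Perm.mem_alternatingGroup.mpr (by rw [map_mul, h, Perm.sign_swap hab]; rfl), ?_⟩
    have hc : Commute (swap a b) q₂ := disjoint_commute (fun x hx => swap_apply_of_ne_of_ne
      (fun e => ha (by rw [← e]; exact hx)) (fun e => hb (by rw [← e]; exact hx)))
    rw [mul_inv_rev, show swap a b * g0 * q₁ * (g0⁻¹ * (swap a b)⁻¹) =
      swap a b * (g0 * q₁ * g0⁻¹) * (swap a b)⁻¹ by group, hg0, hc.eq, mul_inv_cancel_right]
  set H := fixOn (q₂.support : Set α) ⊓ G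
  set D := C₁.map (MulAut.conj g).toMonoidHom
  have hDH : D ≤ H := by
    rintro _ ⟨c, hc, rfl⟩
    refine ⟨fun a ha => ?_, G.mul_mem (G.mul_mem hgG (hN1 (hC1 hc))) (G.inv_mem hgG)⟩
    have hb : g⁻¹ a ∈ q₁.support := by
      rw [Perm.mem_support]
      intro h
      apply Perm.mem_support.mp ha
      rw [← hg, Perm.mul_apply, Perm.mul_apply, h]
      simp
    show g (c (g⁻¹ a)) = a
    rw [hf1 hc _ hb]; simp
  have hCH : C₂ ≤ H := le_inf hf2 (hC2.trans hN2)
  have hDcard : Nat.card (D.subgroupOf H) = 2 ^ (Nat.card H).factorization 2 := by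
    rw [Nat.card_congr (Subgroup.subgroupOfEquivOfLe hDH).toEquiv,
      Subgroup.card_map_of_injective (MulAut.conj g).injective, hcard, hu, hmax]
  have hCcard : Nat.card (C₂.subgroupOf H) = 2 ^ (Nat.card H).factorization 2 := by
    rw [Nat.card_congr (Subgroup.subgroupOfEquivOfLe hCH).toEquiv, hu, hmax]
  obtain ⟨h, hh⟩ := MulAction.exists_smul_eq H (Sylow.ofCard (D.subgroupOf H) hDcard)
    (Sylow.ofCard (C₂.subgroupOf H) hCcard)
  refine ⟨(h : Perm α) * g, G.mul_mem h.2.2 hgG, ?_⟩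
  set M := N₁.map (MulAut.conj ((h : Perm α) * g)).toMonoidHom
  have hqM : q₂ ∈ M := ⟨q₁, hq1, by
    show (h : Perm α) * g * q₁ * ((h : Perm α) * g)⁻¹ = q₂
    rw [mul_inv_rev, show (h : Perm α) * g * q₁ * (g⁻¹ * (h : Perm α)⁻¹) =
      (h : Perm α) * (g * q₁ * g⁻¹) * (h : Perm α)⁻¹ by group, hg, (disjoint_commute h.2.1).eq,
      mul_inv_cancel_right]⟩
  have hCM : C₂ ≤ M := by
    intro c hc
    have hh' := congrArg (fun S : Sylow 2 H => (S : Subgroup H)) hh
    simp only [Sylow.coe_subgroup_smul, Sylow.coe_ofCard] at hh'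
    have hc' : (⟨c, hCH hc⟩ : H) ∈ C₂.subgroupOf H := hc
    rw [← hh'] at hc'
    obtain ⟨d, hd, hde⟩ := hc'
    obtain ⟨c1, hc1, hc1e⟩ : (d : Perm α) ∈ D := hd
    refine ⟨c1, hC1 hc1, ?_⟩
    show (h : Perm α) * g * c1 * ((h : Perm α) * g)⁻¹ = c
    have he : (h : Perm α) * (d : Perm α) * (h : Perm α)⁻¹ = c := congrArg Subtype.val hde
    rw [← he, ← hc1e, MulEquiv.coe_toMonoidHom, MulAut.conj_apply]
    group
  have hgen : Nat.card N₂ ≤ Nat.card (N₂ ⊓ M : Subgroup (Perm α)) := by
    rw [← hN']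
    refine Nat.le_of_dvd Nat.card_pos (Nat.Coprime.mul_dvd_of_dvd_of_dvd ?_ ?_ ?_)
    · rw [hu]; exact Nat.Coprime.pow_right u (by norm_num)
    · rw [← h2.orderOf]; exact Subgroup.orderOf_dvd_natCard _ ⟨hq2, hqM⟩
    · exact Subgroup.card_dvd_of_le (le_inf hC2 hCM)
  have hle : N₂ ≤ M := inf_eq_left.mp (Subgroup.eq_of_le_of_card_ge inf_le_left hgen)
  refine Subgroup.eq_of_le_of_card_ge hle ?_
  rw [Subgroup.card_map_of_injective (MulAut.conj _).injective, hN]

/-- The standard extremal subgroup. -/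
theorem exists_extremal (n : ℕ) (hn : 3 ≤ n) (P : Subgroup (Perm (Fin (n - 3)))) [Group.IsNilpotent P] :
    ∃ f : P × Multiplicative (ZMod 3) →* Perm (Fin n), Function.Injective f ∧
      ∀ x, Perm.sign (f x) = Perm.sign (x.1 : Perm (Fin (n - 3))) := by
  let e : Fin (n - 3) ⊕ Fin 3 ≃ Fin n := finSumFinEquiv.trans (finCongr (by omega))
  set K := Subgroup.zpowers (finRotate 3)
  have hK : Nat.card K = 3 := by
    rw [Nat.card_zpowers, ← Perm.lcm_cycleType, cycleType_finRotate_of_le (by norm_num)]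
    simp
  haveI : Fact (Nat.Prime 3) := ⟨Nat.prime_three⟩
  let ψ : Multiplicative (ZMod 3) ≃* K := mulEquivOfPrimeCardEq (p := 3) (by simp) hK
  let f : P × Multiplicative (ZMod 3) →* Perm (Fin n) :=
    (e.permCongrHom.toMonoidHom.comp (Perm.sumCongrHom _ _)).comp
      (P.subtype.prodMap (K.subtype.comp ψ.toMonoidHom))
  refine ⟨f, e.permCongrHom.injective.comp (Perm.sumCongrHom_injective.comp ?_), ?_⟩
  · rintro ⟨a, b⟩ ⟨c, d⟩ h
    simp only [MonoidHom.prodMap, MonoidHom.coe_coe, MonoidHom.prod_apply, MonoidHom.comp_apply,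
      MonoidHom.coe_fst, MonoidHom.coe_snd, Prod.mk.injEq] at h
    exact Prod.ext (Subtype.ext h.1) (ψ.injective (Subtype.ext h.2))
  · rintro ⟨a, b⟩
    show Perm.sign (e.permCongr (Equiv.sumCongr (a : Perm (Fin (n - 3))) ((ψ b : K) : Perm (Fin 3)))) = _
    rw [Perm.sign_permCongr, Perm.sign_sumCongr]
    have h : Perm.sign ((ψ b : K) : Perm (Fin 3)) = 1 := by
      obtain ⟨i, hi⟩ := Subgroup.mem_zpowers_iff.mp (ψ b).2
      rw [← hi, map_zpow, sign_finRotate]
      simp
    rw [h, mul_one]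

end CfsgLib.NilpPerm
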